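import Groth.Prelude.Def_Bivar2
import Groth.Agent.CycPBLib.Chern
import Groth.Agent.CycBivLib.Chow
import Groth.Agent.CycBivLib.Setup
import Groth.Agent.CycAffLib.Fibre
import Groth.Agent.CycCommLib.RatEquiv
import Groth.Agent.ProjBunLib.Props
import Groth.Agent.SeesawLib.Ranks

/-! Chern classes as operational classes are unique. -/

set_option autoImplicit false
set_option linter.style.haveILetI false
universe u

open AlgebraicGeometry CategoryTheory CategoryTheory.Limits Opposite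

noncomputable section

namespace Groth.Agent.ChernUniqLib

theorem exists_rep {X : Scheme.{u}} {δ : X → ℤ} {k : ℤ} (x : ChowOps.CH X δ k) :
    ∃ (α : AlgebraicCycle X ℤ) (hα : α ∈ Cyc.Zk X δ k), x = ChowOps.cl α hα := by
  obtain ⟨⟨α, hα⟩, rfl⟩ := QuotientAddGroup.mk_surjective x
  exact ⟨α, hα, rfl⟩

theorem isChernClasses_unique (X : Scheme.{u}) (δX : X → ℤ) (hX : Cyc.IsSetup X δX) (E : X.Modules) (r : ℕ)
    (c c' : (j : ℕ) → Bivar.OpCl (j : ℤ) X δX) (hc : Bivar.IsChernClasses E r c)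
    (hc' : Bivar.IsChernClasses E r c') : c = c' := by
  obtain ⟨hE, h0, hgt, hcap⟩ := hc
  obtain ⟨-, h0', hgt', hcap'⟩ := hc'
  funext j
  by_cases hj : r < j
  · rw [hgt j hj, hgt' j hj]
  refine Bivar.OpCl.ext ?_
  funext s k
  refine AddMonoidHom.ext fun x => ?_
  obtain ⟨α, hα, rfl⟩ := exists_rep x
  cases r with
  | zero =>
    obtain rfl : j = 0 := by omega
    rw [h0, h0']
  | succ m =>
    haveI := s.lft
    let E' := (Scheme.Modules.pullback s.g).obj E
    have hE' : FlatMod.IsFinLocFreeOfRank (m + 1) E' := SeesawLib.isFinLocFreeOfRank_pullback s.g hE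
    obtain ⟨P, π, O1, q, hP⟩ := ProjBunLib.exists_isProjBundle hE'
    haveI : IsProper π := ProjBunLib.isProper hP hE'
    obtain ⟨δP, hδP⟩ := CycAffLib.exists_deltaCompat π s.δ
    have hY := CycBivLib.isSetup_of_lft s.g hX s.compat
    have hPs := CycBivLib.isSetup_of_lft π hY hδP
    have hfam : ∀ d : (j : ℕ) → Bivar.OpCl (j : ℤ) X δX, d 0 = Bivar.OpCl.one X δX →
        ∃ ζ : Fin (m + 1 + 1) → AlgebraicCycle s.Y ℤ, ζ 0 = α ∧
          ∃ hζ : ∀ i : Fin (m + 1 + 1), ζ i ∈ Cyc.Zk s.Y s.δ (k - ((i : ℕ) : ℤ)),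
            ∀ i : Fin (m + 1 + 1), (d i).op s k (ChowOps.cl α hα) = ChowOps.cl (ζ i) (hζ i) := by
      intro d hd
      choose ζ hζ hζe using fun i : Fin (m + 1 + 1) => exists_rep ((d i).op s k (ChowOps.cl α hα))
      have hα0 : α ∈ Cyc.Zk s.Y s.δ (k - (((0 : Fin (m + 1 + 1)) : ℕ) : ℤ)) := by simpa using hα
      refine ⟨Function.update ζ 0 α, Function.update_self _ _ _, fun i => ?_, fun i => ?_⟩
      · rcases eq_or_ne i 0 with rfl | hi
        · rwa [Function.update_self]
        · rw [Function.update_of_ne hi]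
          exact hζ i
      · rcases eq_or_ne i 0 with rfl | hi
        · rw [Bivar.cl_congr (Function.update_self 0 α ζ) _ hα0]
          have e1 : (d 0).op s k = (Bivar.chCast s.Y s.δ (sub_zero k).symm).toAddMonoidHom :=
            congrArg (fun o => Bivar.OpCl.op o s k) hd
          show (d 0).op s k (ChowOps.cl α hα) = _
          rw [e1]
          exact (Bivar.chCast_cl _ _ _ _ _).trans (Bivar.cl_congr rfl _ _)
        · rw [Bivar.cl_congr (Function.update_of_ne hi α ζ) _ (hζ i)]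
          exact hζe i
    obtain ⟨ζ, hζ0, hζ, hζe⟩ := hfam c h0
    obtain ⟨ζ', hζ0', hζ', hζe'⟩ := hfam c' h0'
    have hC := hcap s P π O1 q hP δP hδP k α hα ζ hζ0 hζ hζe
    have hC' := hcap' s P π O1 q hP δP hδP k α hα ζ' hζ0' hζ' hζe'
    obtain ⟨B, hB, hBP⟩ := CycPBLib.exists_bun' hE' hP hY hPs hδP
    rw [← hB] at hC hC'
    rw [← hBP] at hC hC'
    let i : Fin (m + 1 + 1) := ⟨j, by omega⟩
    have h := B.chern_unique (CycCommLib.ratEquiv_refl α) hC hC' i
    rw [hB] at h
    exact (hζe i).trans ((CycBivLib.cl_eq_cl _ _ h).trans (hζe' i).symm)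

end Groth.Agent.ChernUniqLib
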